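import Groth.Agent.Desc19b.FamilyDescent
import Groth.Agent.EGA43.QcohFP
import Groth.Agent.Coherent.FiniteType

/-!
# Finiteness conditions on quasi-coherent modules descend along flat open covering families
-/

set_option autoImplicit false
set_option linter.style.haveILetI false
set_option backward.isDefEq.respectTransparency false
set_option backward.isDefEq.respectTransparency.types false

universe u

open CategoryTheory CategoryTheory.Limits AlgebraicGeometry TensorProduct TopologicalSpace Opposite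
open Groth.Agent.Coherent

namespace Groth.Agent.StkDesc11

variable {T : Scheme.{u}} {I : Type*} {Y : I → Scheme.{u}} (g : ∀ i, Y i ⟶ T)

theorem exists_affine_family_of_open (hopen : ∀ i, IsOpenMap (g i)) (hcov : ∀ t : T, ∃ i, t ∈ Set.range (g i))
    {U : T.Opens} (hU : IsAffineOpen U) :
    ∃ (n : ℕ) (c : Fin n → I) (V : ∀ k, (Y (c k)).Opens) (_ : ∀ k, IsAffineOpen (V k))
      (e : ∀ k, V k ≤ g (c k) ⁻¹ᵁ U),
      ∀ p : PrimeSpectrum Γ(T, U), ∃ (k : Fin n) (q : PrimeSpectrum Γ(Y (c k), V k)),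
        PrimeSpectrum.comap ((g (c k)).appLE U (V k) (e k)).hom q = p := by
  have hW : ∀ z : Σ i, ↥(g i ⁻¹ᵁ U), ∃ W : (Y z.1).Opens, IsAffineOpen W ∧ z.2.1 ∈ W ∧ W ≤ g z.1 ⁻¹ᵁ U := fun z => by
    obtain ⟨W, hW, hz, hle⟩ := Opens.isBasis_iff_nbhd.mp (Y z.1).isBasis_affineOpens z.2.2
    exact ⟨W, hW, hz, hle⟩
  choose W hWa hzW hWU using hW
  obtain ⟨s, hs⟩ := hU.isCompact.elim_finite_subcover
    (fun z : Σ i, ↥(g i ⁻¹ᵁ U) => g z.1 '' (W z : Set (Y z.1)))
    (fun z => hopen z.1 _ (W z).2) (fun y hy => by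
      obtain ⟨i, x, rfl⟩ := hcov y
      exact Set.mem_iUnion.2 ⟨⟨i, x, hy⟩, x, hzW ⟨i, x, hy⟩, rfl⟩)
  refine ⟨s.card, fun k => (s.equivFin.symm k).1.1, fun k => W (s.equivFin.symm k).1, fun k => hWa _,
    fun k => hWU _, fun p => ?_⟩
  obtain ⟨⟨y, hy⟩, rfl⟩ : ∃ y : U, hU.primeIdealOf y = p := hU.isoSpec.hom.homeomorph.surjective p
  obtain ⟨z, hzs, x, hx, rfl⟩ := Set.mem_iUnion₂.1 (hs hy)
  obtain ⟨k, hk⟩ := s.equivFin.symm.surjective ⟨z, hzs⟩
  have : z = (s.equivFin.symm k).1 := by rw [hk]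
  subst this
  exact ⟨k, (hWa _).primeIdealOf ⟨x, hx⟩, IsAffineOpen.comap_primeIdealOf_appLE U hU _ (hWa _) (hWU _) hx⟩

variable [∀ i, Flat (g i)] (hopen : ∀ i, IsOpenMap (g i)) (hcov : ∀ t : T, ∃ i, t ∈ Set.range (g i))
  (M : T.Modules) [Coh.IsQCoh M]
include hopen hcov

theorem isCoh_of_family (h : ∀ i, CohB1.IsFT ((Scheme.Modules.pullback (g i)).obj M)) : Coh.IsCoh M := by
  refine (Coherent.isCoh_iff_finite_sections M).2 ⟨inferInstance, fun U hU => ?_⟩
  obtain ⟨n, c, V, hV, e, hc⟩ := exists_affine_family_of_open g hopen hcov hU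
  letI : ∀ k, Algebra Γ(T, U) Γ(Y (c k), V k) := fun k => ((g (c k)).appLE U (V k) (e k)).hom.toAlgebra
  haveI : ∀ k, Module.Flat Γ(T, U) Γ(Y (c k), V k) := fun k =>
    HasRingHomProperty.appLE @Flat (g (c k)) inferInstance ⟨U, hU⟩ ⟨V k, hV k⟩ (e k)
  refine Desc19b.finite_of_family (fun k => Γ(Y (c k), V k)) hc _ fun k => ?_
  haveI : Coh.IsQCoh ((Scheme.Modules.pullback (g (c k))).obj M) := EGA43.InjFibre.isQCoh_pullback (g (c k)) M
  haveI := finite_sections _ (locallyFinGen_of_isFT _ (h (c k))) (hV k)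
  obtain ⟨E⟩ := Flatn12.nonempty_pullback_sections_equiv (g (c k)) M hU (hV k) (e k)
  exact Module.Finite.equiv E.symm

theorem isFP_of_family (h : ∀ i, CohB1.IsFP ((Scheme.Modules.pullback (g i)).obj M)) : CohB1.IsFP M := by
  refine EGA43.FPKernel.isFP_of_forall_exists_affine M fun x => ?_
  obtain ⟨U, hU, hxU, -⟩ := Opens.isBasis_iff_nbhd.mp T.isBasis_affineOpens (Opens.mem_top x)
  refine ⟨U, hU, hxU, ?_⟩
  obtain ⟨n, c, V, hV, e, hc⟩ := exists_affine_family_of_open g hopen hcov hU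
  letI : ∀ k, Algebra Γ(T, U) Γ(Y (c k), V k) := fun k => ((g (c k)).appLE U (V k) (e k)).hom.toAlgebra
  haveI : ∀ k, Module.Flat Γ(T, U) Γ(Y (c k), V k) := fun k =>
    HasRingHomProperty.appLE @Flat (g (c k)) inferInstance ⟨U, hU⟩ ⟨V k, hV k⟩ (e k)
  refine Desc19b.finitePresentation_of_family (fun k => Γ(Y (c k), V k)) hc _ fun k => ?_
  haveI : Coh.IsQCoh ((Scheme.Modules.pullback (g (c k))).obj M) := EGA43.InjFibre.isQCoh_pullback (g (c k)) M
  haveI := EGA43.QcohFP.finitePresentation_sections _ (h (c k)) (hV k)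
  obtain ⟨E⟩ := Flatn12.nonempty_pullback_sections_equiv (g (c k)) M hU (hV k) (e k)
  exact Module.FinitePresentation.of_equiv E.symm

theorem isFinLocFree_of_family (h : ∀ i, FlatMod.IsFinLocFree ((Scheme.Modules.pullback (g i)).obj M)) :
    FlatMod.IsFinLocFree M := by
  have hFP : CohB1.IsFP M := isFP_of_family g hopen hcov M fun i =>
    haveI : Coh.IsQCoh ((Scheme.Modules.pullback (g i)).obj M) := EGA43.InjFibre.isQCoh_pullback (g i) M
    Props12.isFP_of_isFinLocFree _ (h i)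
  refine Props12.isFinLocFree_of_isFP_of_free_stalks M hFP fun y => ?_
  obtain ⟨i, x, rfl⟩ := hcov y
  let f := g i
  haveI : Coh.IsQCoh ((Scheme.Modules.pullback f).obj M) := EGA43.InjFibre.isQCoh_pullback f M
  haveI : Module.Finite (T.presheaf.stalk (f x)) (M.presheaf.stalk (f x)) :=
    Desc19b.finite_stalk_of_baseChange f M (h i) x
  letI := (f.stalkMap x).hom.toAlgebra
  haveI : IsLocalHom (algebraMap (T.presheaf.stalk (f x)) ((Y i).presheaf.stalk x)) := inferInstanceAs (IsLocalHom (f.stalkMap x).hom)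
  haveI : Module.Flat (T.presheaf.stalk (f x)) ((Y i).presheaf.stalk x) := Flat.stalkMap f x
  haveI : Module.FaithfullyFlat (T.presheaf.stalk (f x)) ((Y i).presheaf.stalk x) := Module.FaithfullyFlat.of_flat_of_isLocalHom
  haveI : Module.Flat ((Y i).presheaf.stalk x) (((Scheme.Modules.pullback f).obj M).presheaf.stalk x) :=
    Props12.isFlat_of_isFinLocFree _ (h i) x
  let E : ((Scheme.Modules.pullback f).obj M).presheaf.stalk x ≃ₗ[(Y i).presheaf.stalk x]
      ((Y i).presheaf.stalk x) ⊗[T.presheaf.stalk (f x)] (M.presheaf.stalk (f x)) :=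
    ((ModStalk.pullbackStalkIso f x).app M).toLinearEquiv
  haveI : Module.Flat ((Y i).presheaf.stalk x) (((Y i).presheaf.stalk x) ⊗[T.presheaf.stalk (f x)] (M.presheaf.stalk (f x))) :=
    Module.Flat.of_linearEquiv E.symm
  haveI : Module.Flat (T.presheaf.stalk (f x)) (M.presheaf.stalk (f x)) :=
    Module.Flat.of_flat_tensorProduct (T.presheaf.stalk (f x)) (M.presheaf.stalk (f x)) ((Y i).presheaf.stalk x)
  exact Module.free_of_flat_of_isLocalRing

end Groth.Agent.StkDesc11
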