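import Groth.Agent.Coherent.FinitePres
import Groth.Agent.Props12.FinLocFree
import Mathlib.Algebra.Category.ModuleCat.Sheaf.LocallyFree

/-!
# Mathlib's `IsLocallyFree` together with finite type is finite local freeness
-/

set_option autoImplicit false
set_option backward.isDefEq.respectTransparency false
set_option backward.isDefEq.respectTransparency.types false

universe u

open CategoryTheory CategoryTheory.Limits AlgebraicGeometry TopologicalSpace Opposite
open Groth.Agent.Coherent

noncomputable section

namespace Groth.Agent.StkDesc11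

variable {X : Scheme.{u}}

/-- A free module with an epimorphism from `M` whose sections are locally finitely generated has finite rank. -/
theorem finite_of_locallyFinGen_iso_free {M : X.Modules} (hM : LocallyFinGen M) {I : Type u}
    (e : M ≅ Coherent.freeMod X I) (x : X) : Finite I := by
  classical
  obtain ⟨V, J, _, s, hxV, hs⟩ := hM x
  by_contra hI
  rw [not_finite_iff_infinite] at hI
  let m := Fintype.card J + 1
  let α : Fin m ↪ I := Fin.valEmbedding.trans (Infinite.natEmbedding I)
  let R := X.presheaf.stalk x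
  let b : J → Fin m → R := fun j l =>
    X.presheaf.germ V x hxV (freeCoord V (α l) (e.hom.app V (s j)))
  have key : ∀ k : Fin m, ∃ c : J → R, ∀ l, ∑ j, c j * b j l = if l = k then 1 else 0 := fun k => by
    obtain ⟨W, hW, hxW, c, hc⟩ := hs V le_rfl (e.inv.app V (freeBasisVec (α k) V)) x hxV
    refine ⟨fun j => X.presheaf.germ W x hxW (c j), fun l => ?_⟩
    let p : M ⟶ Coh.structureModule X := e.hom ≫ freeProj (α l)
    have h1 := congrArg (fun t => p.app W t) hc
    simp only [map_sum] at h1
    have h2 : ∀ j, p.app W (c j • resM M (hW.trans le_rfl) (s j)) =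
        c j * X.presheaf.map (homOfLE hW).op (freeCoord V (α l) (e.hom.app V (s j))) := fun j => by
      rw [Scheme.Modules.Hom.app_smul, app_resM]
      rfl
    have hid : (freeProj (X := X) (α l)).app W (e.hom.app W (e.inv.app W (freeBasisVec (α k) W))) =
        (freeProj (X := X) (α l)).app W (freeBasisVec (α k) W) := by
      show (freeProj (X := X) (α l)).app W ((e.inv ≫ e.hom).app W (freeBasisVec (α k) W)) = _
      rw [e.inv_hom_id]; rfl
    have h3 : p.app W (resM M hW (e.inv.app V (freeBasisVec (α k) V))) =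
        (if l = k then (1 : Γ(X, W)) else 0) := by
      rw [← app_resM]
      show (freeProj (α l)).app W (e.hom.app W (e.inv.app W (resM _ hW (freeBasisVec (α k) V)))) = _
      rw [show resM (Coherent.freeMod X I) hW (freeBasisVec (α k) V) = freeBasisVec (α k) W from
        resM_unitVal _ hW, hid]
      show unitVal (freeInj (α k) ≫ freeProj (α l)) W = _
      rw [freeInj_freeProj]
      by_cases hlk : l = k
      · subst hlk; rw [if_pos rfl, if_pos rfl]; rfl
      · rw [if_neg (fun h => hlk (α.injective h).symm), if_neg hlk]; rfl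
    rw [h3, Finset.sum_congr rfl fun j _ => h2 j] at h1
    have h4 := congrArg (X.presheaf.germ W x hxW) h1
    rw [map_sum] at h4
    simp only [map_mul, X.presheaf.germ_res_apply] at h4
    refine h4.symm.trans ?_
    split_ifs <;> simp
  choose c hc using key
  let Φ : (J → R) →ₗ[R] (Fin m → R) :=
    { toFun := fun v l => ∑ j, v j * b j l
      map_add' := fun v w => by ext l; simp [add_mul, Finset.sum_add_distrib]
      map_smul' := fun r v => by ext l; simp [Finset.mul_sum, mul_assoc] }
  have hsurj : Function.Surjective Φ := fun w => by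
    refine ⟨∑ k, w k • c k, funext fun l => ?_⟩
    rw [map_sum]
    simp only [map_smul, Finset.sum_apply, Pi.smul_apply]
    show ∑ k, w k * ∑ j, c k j * b j l = w l
    simp [hc]
  have := card_le_of_surjective' R
    ((Finsupp.linearEquivFunOnFinite R R (Fin m)).symm.toLinearMap ∘ₗ Φ ∘ₗ
      (Finsupp.linearEquivFunOnFinite R R J).toLinearMap)
    ((Finsupp.linearEquivFunOnFinite R R (Fin m)).symm.surjective.comp
      (hsurj.comp (Finsupp.linearEquivFunOnFinite R R J).surjective))
  simp only [m, Fintype.card_fin] at this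
  omega

theorem locallyFinGen_restrict {M : X.Modules} (hM : LocallyFinGen M) {Y : Scheme.{u}} (j : Y ⟶ X)
    [IsOpenImmersion j] : LocallyFinGen (M.restrict j) := by
  intro y
  obtain ⟨V, I, _, s, hxV, hs⟩ := hM (j y)
  exact ⟨j ⁻¹ᵁ V, I, inferInstance, fun i => (M.restrictAppIso j _).inv
    (resM M (j.image_preimage_le V) (s i)), hxV,
    genOn_restrict_of_genOn j M (hs.res (j.image_preimage_le V))⟩

theorem isFinLocFree_of_isLocallyFree (M : X.Modules)
    (h₁ : SheafOfModules.IsLocallyFree (R := X.ringCatSheaf) M)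
    (h₂ : SheafOfModules.IsFiniteType (R := X.ringCatSheaf) M) : FlatMod.IsFinLocFree M := by
  intro x
  obtain ⟨q, hq⟩ := h₁.exists_isLocallyFreeData
  obtain ⟨i, hi⟩ := ((Opens.coversTop_iff _ q.X).1 q.coversTop).exists_mem x
  obtain ⟨V, hV⟩ : ∃ V : X.Opens, V = q.X i := ⟨_, rfl⟩
  have hxV : x ∈ V := hV ▸ hi
  obtain ⟨I, ⟨e₀⟩⟩ : ∃ I : Type u, Nonempty (SheafOfModules.free (R := X.ringCatSheaf.over V) I ≅
      SheafOfModules.over M V) := by
    subst hV
    haveI := hq.isIso i
    exact ⟨(q.generators i).I, ⟨asIso (q.generators i).π⟩⟩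
  let F : SheafOfModules.{u} (X.ringCatSheaf.over V) ⥤
      SheafOfModules.{u} V.toScheme.ringCatSheaf :=
    (Scheme.Modules.overEquiv V).functor
  have : PreservesColimitsOfSize.{u, u} F :=
    (Scheme.Modules.overEquiv V).toAdjunction.leftAdjoint_preservesColimits
  let e₁ := (SheafOfModules.mapFreeIso F I (V.sheafOfModulesEquivOverUnit X.ringCatSheaf).symm ≪≫
      F.mapIso e₀)
  let e₂ := (Scheme.Modules.overFunctorEquiv V).app M
  let e : M.restrict V.ι ≅ Coherent.freeMod V.toScheme I :=
    e₂.symm ≪≫ (e₁ : SheafOfModules.free (R := V.toScheme.ringCatSheaf) I ≅ _).symm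
  haveI : Finite I := finite_of_locallyFinGen_iso_free
    (locallyFinGen_restrict (locallyFinGen_of_isFT M h₂) V.ι) e ⟨x, hxV⟩
  exact ⟨V, Nat.card I, hxV, ⟨e ≪≫ Sigma.whiskerEquiv (f := fun _ : I => Coh.structureModule V.toScheme) (g := fun _ : Fin (Nat.card I) => Coh.structureModule V.toScheme) (Finite.equivFin I) (fun _ => Iso.refl _)⟩⟩

section Gen

universe v₁ u₁
variable {C : Type u₁} [Category.{v₁} C] {J : GrothendieckTopology C} {R : Sheaf J RingCat.{u}}
  [HasWeakSheafify J AddCommGrpCat.{u}] [J.WEqualsLocallyBijective AddCommGrpCat.{u}]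

/-- Generating sections from an isomorphism with a free module. -/
def gensOfIso {N : SheafOfModules.{u} R} {I : Type u} (e : SheafOfModules.free (R := R) I ≅ N) :
    N.GeneratingSections where
  I := I
  s := SheafOfModules.freeHomEquiv _ e.hom
  epi := by rw [Equiv.symm_apply_apply]; infer_instance

theorem isIso_gensOfIso_π {N : SheafOfModules.{u} R} {I : Type u} (e : SheafOfModules.free (R := R) I ≅ N) :
    IsIso (gensOfIso e).π := by
  show IsIso ((SheafOfModules.freeHomEquiv _).symm (SheafOfModules.freeHomEquiv _ e.hom))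
  rw [Equiv.symm_apply_apply]
  infer_instance

end Gen

theorem isLocallyFree_of_isFinLocFree (M : X.Modules) (h : FlatMod.IsFinLocFree M) :
    SheafOfModules.IsLocallyFree (R := X.ringCatSheaf) M := by
  choose U n hxU hU using h
  let E : ∀ x, Coherent.freeMod (U x).toScheme (ULift.{u} (Fin (n x))) ≅ M.restrict (U x).ι :=
    fun x => (Sigma.whiskerEquiv (f := fun _ : ULift.{u} (Fin (n x)) => Coh.structureModule (U x).toScheme) (g := fun _ : Fin (n x) => Coh.structureModule (U x).toScheme) Equiv.ulift (fun _ => Iso.refl _)) ≪≫ (hU x).some.symm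
  let F : ∀ x, SheafOfModules.{u} (U x).toScheme.ringCatSheaf ⥤
      SheafOfModules.{u} (X.ringCatSheaf.over (U x)) := fun x =>
    (Scheme.Modules.overEquiv (U x)).inverse
  have : ∀ x, PreservesColimitsOfSize.{u, u} (F x) := fun x =>
    (Scheme.Modules.overEquiv (U x)).symm.toAdjunction.leftAdjoint_preservesColimits
  obtain ⟨e⟩ : Nonempty (∀ x, SheafOfModules.free (R := X.ringCatSheaf.over (U x)) (ULift.{u} (Fin (n x))) ≅
      SheafOfModules.over M (U x)) := ⟨fun x =>
    SheafOfModules.mapFreeIso (F x) _ ((U x).sheafOfModulesEquivOverInverseUnit X.ringCatSheaf).symm ≪≫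
    (F x).mapIso (E x) ≪≫
    (Scheme.Modules.overEquiv (U x)).inverse.mapIso
        ((Scheme.Modules.overFunctorEquiv (U x)).symm.app M) ≪≫
      ((Scheme.Modules.overEquiv (U x)).unitIso.app
        ((SheafOfModules.overFunctor X.ringCatSheaf (U x)).obj M)).symm⟩
  let σ : SheafOfModules.LocalGeneratorsData.{u} (R := X.ringCatSheaf) M :=
    { I := X
      X := U
      coversTop := (Opens.coversTop_iff _ U).2 (by
        rw [IsOpenCover, eq_top_iff]
        exact fun x _ => Opens.mem_iSup.2 ⟨x, hxU x⟩)
      generators := fun x => gensOfIso (e x) }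
  haveI : σ.IsLocallyFreeData :=
    SheafOfModules.LocalGeneratorsData.IsLocallyFreeData.mk (q := σ) fun x => isIso_gensOfIso_π (e x)
  exact σ.isLocallyFree

theorem isFiniteType_of_isFinLocFree (M : X.Modules) [Coh.IsQCoh M] (h : FlatMod.IsFinLocFree M) :
    SheafOfModules.IsFiniteType (R := X.ringCatSheaf) M := by
  have hFP := Props12.isFP_of_isFinLocFree M h
  obtain ⟨q, hq⟩ := SheafOfModules.IsFinitePresentation.exists_quasicoherentData (R := X.ringCatSheaf) (M := M)
  exact SheafOfModules.IsFiniteType.mk (R := X.ringCatSheaf) (M := M) ⟨q.localGeneratorsData, inferInstance⟩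

end Groth.Agent.StkDesc11
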